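import Groth.Agent.L00.RDerLES
import Mathlib.Algebra.Homology.DerivedCategory.Ext.Map
import Mathlib.Algebra.Homology.DerivedCategory.Ext.ExactSequences
import Mathlib.Algebra.Homology.DerivedCategory.Ext.EnoughInjectives
import Mathlib.CategoryTheory.Abelian.RightDerived
import Mathlib.CategoryTheory.Preadditive.Injective.Basic

/-! # Ext groups along an exact left adjoint, for objects acyclic for the right adjoint -/

universe w w' v v' u u'

open CategoryTheory CategoryTheory.Limits CategoryTheory.Abelian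

set_option backward.isDefEq.respectTransparency false
set_option backward.defeqAttrib.useBackward true

namespace Groth.L27.ExtAdj

variable {C : Type u} [Category.{v} C] [Abelian C] {D : Type u'} [Category.{v'} D] [Abelian D]
  [HasExt.{w} C] [HasExt.{w'} D] {L : C ⥤ D} {R : D ⥤ C} [L.Additive] [PreservesFiniteLimits L]
  [PreservesFiniteColimits L] (adj : L ⊣ R) (A : C)

/-- The comparison `Ext^n(A, R F) → Ext^n(L A, F)`. -/
noncomputable def phi (F : D) (n : ℕ) (e : Ext.{w} A (R.obj F) n) : Ext.{w'} (L.obj A) F n :=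
  (e.mapExactFunctor L).comp (Ext.mk₀ (adj.counit.app F)) (add_zero n)

variable {A}

theorem phi_mk₀ (F : D) (a : A ⟶ R.obj F) :
    phi adj A F 0 (Ext.mk₀ a) = Ext.mk₀ ((adj.homEquiv _ _).symm a) := by
  rw [phi, Ext.mapExactFunctor_mk₀, Ext.mk₀_comp_mk₀, Adjunction.homEquiv_counit]

theorem phi_comp_map {F G : D} (g : F ⟶ G) (n : ℕ) (e : Ext.{w} A (R.obj F) n) :
    phi adj A G n (e.comp (Ext.mk₀ (R.map g)) (add_zero n)) =
      (phi adj A F n e).comp (Ext.mk₀ g) (add_zero n) := by
  rw [phi, phi, Ext.mapExactFunctor_comp, Ext.mapExactFunctor_mk₀]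
  rw [Ext.comp_assoc_of_third_deg_zero, Ext.comp_assoc_of_third_deg_zero, Ext.mk₀_comp_mk₀,
    Ext.mk₀_comp_mk₀]
  congr 2
  exact adj.counit_naturality g

variable [R.Additive]

theorem phi_comp_extClass {S : ShortComplex D} (hS : S.ShortExact) (hRS : (S.map R).ShortExact)
    (n : ℕ) (e : Ext.{w} A (R.obj S.X₃) n) :
    phi adj A S.X₁ (n + 1) (e.comp hRS.extClass rfl) =
      (phi adj A S.X₃ n e).comp hS.extClass rfl := by
  let f : (S.map R).map L ⟶ S :=
    { τ₁ := adj.counit.app _
      τ₂ := adj.counit.app _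
      τ₃ := adj.counit.app _
      comm₁₂ := (adj.counit_naturality S.f).symm
      comm₂₃ := (adj.counit_naturality S.g).symm }
  have hn := ShortComplex.ShortExact.extClass_naturality (hRS.map_of_exact L) hS f
  rw [phi, phi, Ext.mapExactFunctor_comp, Ext.mapExactFunctor_extClass]
  refine (Ext.comp_assoc_of_third_deg_zero _ _ _ _).trans ?_
  exact (congrArg (fun r => (e.mapExactFunctor L).comp r rfl) hn).trans
    (Ext.comp_assoc_of_second_deg_zero _ _ _ _).symm

/-- For `F` with vanishing higher derived functors of the right adjoint, `Ext^n(A, R F) ≅ Ext^n(L A, F)`. -/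
theorem bijective_phi [EnoughInjectives D] [PreservesFiniteLimits R] (n : ℕ) :
    ∀ (F : D), (∀ q : ℕ, 0 < q → IsZero ((R.rightDerived q).obj F)) →
      Function.Bijective (phi.{w, w'} adj A F n) := by
  induction n with
  | zero =>
    intro F _
    refine ⟨fun x y h => ?_, fun y => ?_⟩
    · obtain ⟨a, rfl⟩ := (Ext.mk₀_bijective _ _).2 x
      obtain ⟨b, rfl⟩ := (Ext.mk₀_bijective _ _).2 y
      rw [phi_mk₀, phi_mk₀] at h
      rw [(adj.homEquiv _ _).symm.injective ((Ext.mk₀_bijective _ _).1 h)]
    · obtain ⟨b, rfl⟩ := (Ext.mk₀_bijective _ _).2 y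
      exact ⟨Ext.mk₀ (adj.homEquiv _ _ b), by rw [phi_mk₀, Equiv.symm_apply_apply]⟩
  | succ n ih =>
    intro F hF
    let : HasDerivedCategory D := HasDerivedCategory.standard D
    let I := Injective.under F
    let S : ShortComplex D := ShortComplex.mk (Injective.ι F) (cokernel.π (Injective.ι F)) (cokernel.condition _)
    have hS : S.ShortExact :=
      { exact := ShortComplex.exact_of_g_is_cokernel _ (cokernelIsCokernel _) }
    have hI : ∀ q : ℕ, 0 < q → IsZero ((R.rightDerived q).obj I) := fun q hq => by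
      obtain ⟨q, rfl⟩ := Nat.exists_eq_succ_of_ne_zero hq.ne'
      exact R.isZero_rightDerived_obj_injective_succ q I
    have hC : ∀ q : ℕ, 0 < q → IsZero ((R.rightDerived q).obj S.X₃) := fun q hq => by
      have := Groth.L00.RDerLES.epi_map_g R hS q (hF (q + 1) (by omega))
      exact IsZero.of_epi ((R.rightDerived q).map S.g) (hI q hq)
    have hepi : Epi (R.map S.g) := by
      have := Groth.L00.RDerLES.epi_map_g R hS 0 (hF 1 (by omega))
      rw [← NatIso.naturality_1 R.rightDerivedZeroIsoSelf S.g]
      infer_instance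
    have := hS.mono_f
    have hRS : (S.map R).ShortExact :=
      { exact := hS.exact.map_of_mono_of_preservesKernel R inferInstance inferInstance
        mono_f := inferInstanceAs (Mono (R.map S.f))
        epi_g := hepi }
    have : Injective (S.map R).X₂ := Injective.injective_of_adjoint adj I
    have hiC := ih S.X₃ hC
    have hiI := ih I hI
    refine ⟨?_, fun y => ?_⟩
    · intro x x' h
      obtain ⟨z, rfl⟩ := Ext.covariant_sequence_exact₁ A hRS x (Ext.eq_zero_of_injective _) rfl
      obtain ⟨z', rfl⟩ := Ext.covariant_sequence_exact₁ A hRS x' (Ext.eq_zero_of_injective _) rfl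
      change phi adj A S.X₁ _ _ = phi adj A S.X₁ _ _ at h
      rw [phi_comp_extClass adj hS, phi_comp_extClass adj hS] at h
      obtain ⟨w₀, hw⟩ := Ext.covariant_sequence_exact₃ (L.obj A) hS
        (phi adj A S.X₃ n z - phi adj A S.X₃ n z') rfl (by rw [sub_eq_add_neg, Ext.add_comp, Ext.neg_comp, h, add_neg_cancel])
      obtain ⟨t, rfl⟩ := hiI.2 w₀
      rw [← phi_comp_map adj S.g n t] at hw
      let tg : Ext.{w} A (S.map R).X₃ n := t.comp (Ext.mk₀ (R.map S.g)) (add_zero n)
      have hz : z = z' + tg := by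
        apply hiC.1
        refine (eq_sub_iff_add_eq'.1 hw).symm.trans (Eq.symm ?_)
        change ((z' + tg).mapExactFunctor L).comp _ _ = _
        rw [Ext.mapExactFunctor_add, Ext.add_comp]
        rfl
      rw [hz, Ext.add_comp]
      simp only [tg]
      rw [Ext.comp_assoc_of_second_deg_zero]
      exact (add_eq_left).2
        ((congrArg (fun r => t.comp r rfl) hRS.comp_extClass).trans (Ext.comp_zero _ _ _ _ _))
    · obtain ⟨z, rfl⟩ := Ext.covariant_sequence_exact₁ (L.obj A) hS y (Ext.eq_zero_of_injective _) rfl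
      obtain ⟨t, rfl⟩ := hiC.2 z
      exact ⟨t.comp hRS.extClass rfl, phi_comp_extClass adj hS hRS n t⟩

end Groth.L27.ExtAdj
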